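import Mathlib
set_option autoImplicit false

/-!
Extensions of small groups by cyclic groups that split off the cyclic part.
-/

namespace CfsgLib.AutPE

variable {O C : Type*} [Group O] [Finite O] [Group C] (τ : O →* C) {f : ℕ}

/-- The hypotheses on a splitting element. -/
structure Gen (Φ : O) (f : ℕ) : Prop where
  order : orderOf (τ Φ) = f
  top : ∀ y : C, y ∈ Subgroup.zpowers (τ Φ)

variable {τ} {Φ : O}

theorem Gen.exists_decomp (hg : Gen τ Φ f) (x : O) : ∃ p ∈ τ.ker, ∃ n : ℤ, x = p * Φ ^ n := by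
  obtain ⟨n, hn⟩ := Subgroup.mem_zpowers_iff.1 (hg.top (τ x))
  refine ⟨x * (Φ ^ n)⁻¹, ?_, n, by group⟩
  rw [MonoidHom.mem_ker, map_mul, map_inv, map_zpow, hn, mul_inv_cancel]

theorem Gen.card (hg : Gen τ Φ f) : Nat.card O = Nat.card τ.ker * f := by
  rw [Subgroup.card_eq_card_quotient_mul_card_subgroup τ.ker,
    Nat.card_congr (QuotientGroup.quotientKerEquivOfSurjective τ fun y => by
      obtain ⟨n, hn⟩ := Subgroup.mem_zpowers_iff.1 (hg.top y)
      exact ⟨Φ ^ n, by rw [map_zpow, hn]⟩).toEquiv,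
    mul_comm, ← Nat.card_congr (Equiv.subtypeUnivEquiv hg.top)]
  congr 1
  rw [← hg.order, ← Nat.card_zpowers]

theorem Gen.ne_zero (hg : Gen τ Φ f) : f ≠ 0 := fun h0 => by
  have h1 := orderOf_map_dvd τ Φ
  rw [hg.order, h0, zero_dvd_iff] at h1
  exact (orderOf_pos Φ).ne' h1

/-- A central complement. -/
theorem Gen.split {H : Type*} [Group H] (hg : Gen τ Φ f) (ψ : H ≃* τ.ker) (hf : Φ ^ f = 1)
    (hc : ∀ p ∈ τ.ker, Φ * p = p * Φ) : Nonempty (O ≃* H × Multiplicative (ZMod f)) := by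
  have ho : orderOf Φ = f := Nat.dvd_antisymm (orderOf_dvd_of_pow_eq_one hf)
    (hg.order ▸ orderOf_map_dvd τ Φ)
  let e : Subgroup.zpowers Φ ≃* Multiplicative (ZMod f) :=
    mulEquivOfCyclicCardEq (by rw [Nat.card_zpowers, ho, Nat.card_congr Multiplicative.toAdd, Nat.card_zmod])
  let θ : τ.ker × Subgroup.zpowers Φ →* O :=
    τ.ker.subtype.noncommCoprod (Subgroup.zpowers Φ).subtype fun p y => by
      obtain ⟨n, hn⟩ := Subgroup.mem_zpowers_iff.1 y.2
      show (p : O) * y = y * p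
      rw [← hn]
      exact ((Commute.symm (hc p p.2 : Commute Φ (p : O))).zpow_right n).eq
  have hinj : Function.Injective θ := by
    rw [injective_iff_map_eq_one]
    rintro ⟨p, y⟩ hpy
    obtain ⟨n, hn⟩ := Subgroup.mem_zpowers_iff.1 y.2
    have h1 : (p : O) * y = 1 := hpy
    have h2 := congrArg τ h1
    rw [map_mul, MonoidHom.mem_ker.1 p.2, one_mul, map_one, ← hn, map_zpow,
      ← orderOf_dvd_iff_zpow_eq_one, hg.order, ← ho, orderOf_dvd_iff_zpow_eq_one, hn] at h2
    rw [h2, mul_one] at h1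
    exact Prod.ext (Subtype.ext h1) (Subtype.ext h2)
  have hsurj : Function.Surjective θ := fun x => by
    obtain ⟨p, hp, n, rfl⟩ := hg.exists_decomp x
    exact ⟨(⟨p, hp⟩, ⟨Φ ^ n, n, rfl⟩), rfl⟩
  exact ⟨(MulEquiv.ofBijective θ ⟨hinj, hsurj⟩).symm.trans (ψ.symm.prodCongr e)⟩

/-- An abelian kernel of order four containing the power of the splitting element. -/
theorem Gen.split_two (hg : Gen τ Φ f) {s : O} (hs : s ∈ τ.ker) (hs2 : s ^ 2 = 1) (hfs : Φ ^ f ≠ s)
    (hs1 : s ≠ 1) (hf1 : Φ ^ f ≠ 1) (hf2 : (Φ ^ f) ^ 2 = 1) (hcard : Nat.card τ.ker = 4)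
    (hc : Φ * s = s * Φ) : Nonempty (O ≃* Multiplicative (ZMod 2 × ZMod (2 * f))) := by
  have h0 : orderOf s = 2 := orderOf_eq_prime hs2 hs1
  have hf0 : f ≠ 0 := hg.ne_zero
  have ho : orderOf Φ = 2 * f := by
    obtain ⟨k, hk⟩ : f ∣ orderOf Φ := hg.order ▸ orderOf_map_dvd τ Φ
    have h2 : orderOf Φ ∣ f * 2 := orderOf_dvd_of_pow_eq_one (by rw [pow_mul, hf2])
    rw [hk, Nat.mul_dvd_mul_iff_left (Nat.pos_of_ne_zero hf0), Nat.dvd_prime Nat.prime_two] at h2
    rcases h2 with rfl | rfl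
    · exact absurd (by rw [mul_one] at hk; rw [← hk, pow_orderOf_eq_one]) hf1
    · rw [hk, mul_comm]
  let θ : Subgroup.zpowers s × Subgroup.zpowers Φ →* O :=
    (Subgroup.zpowers s).subtype.noncommCoprod (Subgroup.zpowers Φ).subtype fun p y => by
      obtain ⟨i, hi⟩ := Subgroup.mem_zpowers_iff.1 p.2
      obtain ⟨n, hn⟩ := Subgroup.mem_zpowers_iff.1 y.2
      show (p : O) * y = y * p
      rw [← hi, ← hn]
      exact ((Commute.symm (hc : Commute Φ s)).zpow_zpow i n).eq
  have hinj : Function.Injective θ := by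
    rw [injective_iff_map_eq_one]
    rintro ⟨p, y⟩ hpy
    obtain ⟨i, hi⟩ := Subgroup.mem_zpowers_iff.1 p.2
    obtain ⟨n, hn⟩ := Subgroup.mem_zpowers_iff.1 y.2
    have h1 : (p : O) * y = 1 := hpy
    have h2 := congrArg τ h1
    rw [map_mul, ← hi, map_zpow, MonoidHom.mem_ker.1 hs, one_zpow, one_mul, map_one, ← hn, map_zpow,
      ← orderOf_dvd_iff_zpow_eq_one, hg.order] at h2
    obtain ⟨j, rfl⟩ := h2
    rw [← hn, zpow_mul, zpow_natCast, ← hi, eq_comm] at h1
    have key : ∀ (x : O), x ^ 2 = 1 → ∀ k : ℤ, x ^ k = 1 ∨ x ^ k = x := fun x hx k => by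
      rcases Int.even_or_odd' k with ⟨l, rfl | rfl⟩
      · exact Or.inl (by rw [zpow_mul, zpow_two, ← pow_two, hx, one_zpow])
      · exact Or.inr (by rw [zpow_add_one, zpow_mul, zpow_two, ← pow_two, hx, one_zpow, one_mul])
    rcases key _ hf2 j with hj | hj <;> rcases key s hs2 i with hp | hp <;> rw [hj, hp] at h1
    · exact Prod.ext (Subtype.ext (hi.symm.trans hp)) (Subtype.ext (by
        show (y : O) = 1; rw [← hn, zpow_mul, zpow_natCast, hj]))
    · exact absurd (by simpa using h1.symm) hs1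
    · exact absurd (by simpa using h1.symm) hf1
    · exact absurd (eq_inv_of_mul_eq_one_right h1.symm |>.trans
        (inv_eq_of_mul_eq_one_right (by rw [← pow_two, hs2]))) hfs
  have hcardθ : Nat.card (Subgroup.zpowers s × Subgroup.zpowers Φ) = Nat.card O := by
    rw [Nat.card_prod, Nat.card_zpowers, Nat.card_zpowers, h0, ho, hg.card, hcard]; ring
  let e₁ : Subgroup.zpowers s ≃* Multiplicative (ZMod 2) :=
    mulEquivOfCyclicCardEq (by rw [Nat.card_zpowers, h0, Nat.card_congr Multiplicative.toAdd, Nat.card_zmod])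
  let e₂ : Subgroup.zpowers Φ ≃* Multiplicative (ZMod (2 * f)) :=
    mulEquivOfCyclicCardEq (by rw [Nat.card_zpowers, ho, Nat.card_congr Multiplicative.toAdd, Nat.card_zmod])
  exact ⟨((MulEquiv.ofBijective θ ((Nat.bijective_iff_injective_and_card _).2 ⟨hinj, hcardθ⟩)).symm.trans
    (e₁.prodCongr e₂)).trans (MulEquiv.prodMultiplicative _ _).symm⟩

/-- A cyclic extension of a group of order two. -/
theorem Gen.cyclic (hg : Gen τ Φ f) (hcard : Nat.card τ.ker = 2) (hf1 : Φ ^ f ≠ 1) :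
    IsCyclic O ∧ Nat.card O = 2 * f := by
  have hc : Nat.card O = 2 * f := by rw [hg.card, hcard]
  refine ⟨isCyclic_of_orderOf_eq_card Φ ?_, hc⟩
  have hf0 : f ≠ 0 := hg.ne_zero
  obtain ⟨k, hk⟩ : f ∣ orderOf Φ := hg.order ▸ orderOf_map_dvd τ Φ
  have h2 : orderOf Φ ∣ f * 2 := by rw [mul_comm, ← hc]; exact orderOf_dvd_natCard Φ
  rw [hk, Nat.mul_dvd_mul_iff_left (Nat.pos_of_ne_zero hf0), Nat.dvd_prime Nat.prime_two] at h2
  rcases h2 with rfl | rfl
  · exact absurd (by rw [mul_one] at hk; rw [← hk, pow_orderOf_eq_one]) hf1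
  · rw [hk, hc, mul_comm]

/-- A kernel of order two is central. -/
theorem comm_of_card_two (hcard : Nat.card τ.ker = 2) (x : O) : ∀ p ∈ τ.ker, x * p = p * x := by
  intro p hp
  rcases eq_or_ne p 1 with rfl | hp1
  · simp
  haveI : Finite τ.ker := inferInstance
  obtain ⟨a, b, hab, hu⟩ := Nat.card_eq_two_iff.1 hcard
  have key : ∀ q : τ.ker, q = 1 ∨ q = ⟨p, hp⟩ := fun q => by
    have h3 : ∀ z : τ.ker, z = a ∨ z = b := fun z => by
      have := hu.symm ▸ Set.mem_univ z
      simpa using this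
    rcases h3 q with h | h <;> rcases h3 1 with h1 | h1 <;> rcases h3 ⟨p, hp⟩ with h2 | h2 <;>
      first
        | exact Or.inl (h.trans h1.symm)
        | exact Or.inr (h.trans h2.symm)
        | exact absurd (congrArg Subtype.val (h2.trans h1.symm)) hp1
  rcases key ⟨x * p * x⁻¹, (MonoidHom.normal_ker τ).conj_mem p hp x⟩ with h | h
  · exact absurd (by simpa [mul_eq_one_iff_eq_inv] using congrArg Subtype.val h) hp1
  · exact mul_inv_eq_iff_eq_mul.1 (congrArg Subtype.val h)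

/-- A kernel dihedral of order eight, one reflection fixed, the abelianisation fixed. -/
theorem Gen.fix_dihedral (hg : Gen τ Φ f) (hf : Φ ^ f = 1) (hcard : Nat.card τ.ker = 8) {a t z : O}
    (ha : a ∈ τ.ker) (ht : t ∈ τ.ker) (ht2 : t * t = 1) (hta : t * a * t = a * z) (hz : z * z = 1)
    (hz1 : z ≠ 1) (hΦt : Φ * t = t * Φ) (hΦa : Φ * a * Φ⁻¹ = a ∨ Φ * a * Φ⁻¹ = a * z)
    (hΦz : Φ * z = z * Φ) :
    ∃ Φ' : O, Gen τ Φ' f ∧ Φ' ^ f = 1 ∧ ∀ p ∈ τ.ker, Φ' * p = p * Φ' := by
  have hgen : ∀ Φ' : O, Φ' * a = a * Φ' → Φ' * t = t * Φ' → ∀ p ∈ τ.ker, Φ' * p = p * Φ' := by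
    intro Φ' h1 h2
    set K := τ.ker ⊓ Subgroup.centralizer {Φ'} with hK
    have haK : a ∈ K := ⟨ha, Subgroup.mem_centralizer_singleton_iff.2 h1.symm⟩
    have htK : t ∈ K := ⟨ht, Subgroup.mem_centralizer_singleton_iff.2 h2.symm⟩
    have hdvd : Nat.card K ∣ 2 ^ 3 := by
      have := Subgroup.card_dvd_of_le (inf_le_left : K ≤ τ.ker)
      rwa [hcard] at this
    obtain ⟨i, hi, hKi⟩ := (Nat.dvd_prime_pow Nat.prime_two).1 hdvd
    have hi3 : i = 3 := by
      by_contra hne
      have hcomm : ∀ x y : K, x * y = y * x := by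
        interval_cases i
        · haveI : Subsingleton K := (Nat.card_eq_one_iff_unique.1 (by simpa using hKi)).1
          exact fun x y => Subsingleton.elim _ _
        · haveI : IsCyclic K := isCyclic_of_prime_card (p := 2) (by simpa using hKi)
          exact fun x y => (IsCyclic.commGroup (α := K)).mul_comm x y
        · exact fun x y => (IsPGroup.commGroupOfCardEqPrimeSq (p := 2) hKi).mul_comm x y
        · exact absurd rfl hne
      have := congrArg Subtype.val (hcomm ⟨t, htK⟩ ⟨a, haK⟩)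
      simp only [Subgroup.coe_mul] at this
      refine hz1 ?_
      rw [this, mul_assoc, ht2, mul_one] at hta
      exact (mul_left_cancel ((mul_one a).trans hta)).symm
    have heq : K = τ.ker := Subgroup.eq_of_le_of_card_ge inf_le_left (by rw [hKi, hi3, hcard]; norm_num)
    intro p hp
    rw [← heq] at hp
    exact (Subgroup.mem_centralizer_singleton_iff.1 hp.2).symm
  rcases hΦa with h | h
  · exact ⟨Φ, hg, hf, hgen Φ (mul_inv_eq_iff_eq_mul.1 h) hΦt⟩
  have hpow : ∀ n : ℕ, Φ ^ n * a = a * z ^ n * Φ ^ n := by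
    intro n
    induction n with
    | zero => simp
    | succ n ih =>
      have hzc : Commute (Φ ^ n) z := Commute.pow_left hΦz n
      calc Φ ^ (n + 1) * a = Φ ^ n * (Φ * a * Φ⁻¹) * Φ := by rw [pow_succ]; group
        _ = Φ ^ n * a * z * Φ := by rw [h, ← mul_assoc]
        _ = a * z ^ n * (Φ ^ n * z) * Φ := by rw [ih]; group
        _ = _ := by rw [hzc.eq, pow_succ, pow_succ]; group
  have hev : Even f := by
    have h1 := hpow f
    rw [hf, one_mul, mul_one] at h1
    have h1 : z ^ f = 1 := (mul_left_cancel ((mul_one a).trans h1)).symm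
    rw [← orderOf_dvd_iff_pow_eq_one,
      orderOf_eq_prime (by rw [pow_two, hz]) hz1] at h1
    exact even_iff_two_dvd.2 h1
  have hτt : τ (t * Φ) = τ Φ := by rw [map_mul, MonoidHom.mem_ker.1 ht, one_mul]
  refine ⟨t * Φ, ⟨hτt ▸ hg.order, fun y => hτt ▸ hg.top y⟩, ?_, hgen _ ?_ ?_⟩
  · rw [(Commute.symm (hΦt : Commute Φ t)).mul_pow, hf, mul_one]
    obtain ⟨k, rfl⟩ := hev
    rw [← two_mul, pow_mul, pow_two, ht2, one_pow]
  · calc t * Φ * a = t * (Φ * a * Φ⁻¹) * Φ := by group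
      _ = t * a * (z * Φ) := by rw [h]; group
      _ = (t * a * t) * (t * (z * Φ)) := by rw [mul_assoc (t * a) t, ← mul_assoc t t, ht2, one_mul]
      _ = a * t * Φ := by
        rw [hta]
        have htz : Commute t z := by
          have e : z = a⁻¹ * (t * a * t) := by rw [hta, inv_mul_cancel_left]
          have e1 : t * z * t = z⁻¹ := by
            rw [e]
            have hti : t⁻¹ = t := inv_eq_of_mul_eq_one_right ht2
            simp only [mul_inv_rev, inv_inv, hti, mul_assoc]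
            simp [← mul_assoc t t, ht2]
          rw [inv_eq_of_mul_eq_one_right hz] at e1
          show t * z = z * t
          conv_rhs => rw [← e1, mul_assoc (t * z), ht2, mul_one]
        rw [← mul_assoc t z, htz.eq]
        simp only [mul_assoc]
        rw [← mul_assoc z z, hz, one_mul]
      _ = a * (t * Φ) := mul_assoc _ _ _
  · rw [mul_assoc, hΦt, ← mul_assoc]

end CfsgLib.AutPE
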