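import Cfsg.Agent.AutPO.Classify
import Cfsg.Agent.AutPO.Inndiag
import Cfsg.Agent.AutPSL.Card
import Cfsg.Agent.AutPE.OutAbs
set_option autoImplicit false
set_option quotPrecheck false
set_option linter.unusedSectionVars false

/-!
The semisimilarity group modulo inner automorphisms: the field part and its kernel.
-/

namespace CfsgLib.AutPE

open QuadraticMap hiding proj
open Matrix
open CfsgLib.Forms CfsgLib.AutPO

variable {F : Type*} [Field F] [Finite F] {ι : Type} [Fintype ι] [DecidableEq ι]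
  {Q : QuadraticForm F (ι → F)}

local notation "V" => (ι → F)
local notation "Ω'" => (Cfsg.Omega F ⇑Q)
local notation "PΩ'" => (Cfsg.POmega F ⇑Q)

theorem act_eq_stdAut {g : GL ι F} (hg : g ∈ Simil.Sim Q) {k : F} (hs : IsSemi Q g (RingEquiv.refl F) k) :
    Simil.act Q ⟨g, hg⟩ = stdAut hs :=
  ((Simil.induced_iff ⟨g, hg⟩ (stdAut hs)).1 (isInduced_stdAut hs)).symm

theorem isSemi_sim (g : Simil.Sim Q) : ∃ k, IsSemi Q (g : GL ι F) (RingEquiv.refl F) k := by
  obtain ⟨c, hc⟩ := g.2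
  exact ⟨c, c.ne_zero, fun v => hc v⟩

theorem mem_sim_of_semi {g : GL ι F} {τ : F ≃+* F} (hτ : τ = RingEquiv.refl F) {k : F} (hs : IsSemi Q g τ k) :
    g ∈ Simil.Sim Q := by
  subst hτ
  exact ⟨Units.mk0 k hs.1, fun v => hs.2 v⟩

/-- The matrix of the composition of two semilinear maps. -/
def compGL (g₁ : GL ι F) (τ₁ : F ≃+* F) (g₂ : GL ι F) : GL ι F :=
  g₁ * Units.map (τ₁ : F →+* F).mapMatrix.toMonoidHom g₂

theorem semi_compGL (g₁ : GL ι F) (τ₁ : RingAut F) (g₂ : GL ι F) (τ₂ : RingAut F) (v : V) :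
    semi (compGL g₁ τ₁ g₂) (τ₁ * τ₂ : RingAut F) v = semi g₁ τ₁ (semi g₂ τ₂ v) := by
  show ((g₁ : Matrix ι ι F) * (g₂ : Matrix ι ι F).map τ₁) *ᵥ (τ₁ ∘ τ₂ ∘ v) = _
  rw [← mulVec_mulVec, map_mulVec']
  rfl

theorem isSemi_comp {g₁ g₂ : GL ι F} {τ₁ τ₂ : RingAut F} {k₁ k₂ : F} (h₁ : IsSemi Q g₁ τ₁ k₁)
    (h₂ : IsSemi Q g₂ τ₂ k₂) : IsSemi Q (compGL g₁ τ₁ g₂) (τ₁ * τ₂ : RingAut F) (k₁ * τ₁ k₂) :=
  ⟨mul_ne_zero h₁.1 (by simpa using h₂.1), fun v => by
    rw [semi_compGL, h₁.2, h₂.2, map_mul, mul_assoc]; rfl⟩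

theorem stdAut_mul {g₁ g₂ g₃ : GL ι F} {τ₁ τ₂ τ₃ : F ≃+* F} {k₁ k₂ k₃ : F} (h₁ : IsSemi Q g₁ τ₁ k₁)
    (h₂ : IsSemi Q g₂ τ₂ k₂) (h₃ : IsSemi Q g₃ τ₃ k₃)
    (e : ∀ v, semi g₃ τ₃ v = semi g₁ τ₁ (semi g₂ τ₂ v)) :
    stdAut h₃ = stdAut h₁ * stdAut h₂ := by
  refine MulEquiv.ext fun x => ?_
  obtain ⟨x, rfl⟩ := proj_surjective x
  rw [MulAut.mul_apply, stdAut_proj, stdAut_proj, stdAut_proj]
  refine congrArg proj (ext_lin fun v => ?_)
  obtain ⟨w, rfl⟩ := semi_surjective g₃ τ₃ v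
  rw [lin_semiΩ, e (lin x w), e w, lin_semiΩ, lin_semiΩ]

theorem stdAut_comp' {g₁ g₂ : GL ι F} {τ₁ τ₂ : RingAut F} {k₁ k₂ : F} (h₁ : IsSemi Q g₁ τ₁ k₁)
    (h₂ : IsSemi Q g₂ τ₂ k₂) : stdAut (isSemi_comp h₁ h₂) = stdAut h₁ * stdAut h₂ :=
  stdAut_mul h₁ h₂ _ (semi_compGL g₁ τ₁ g₂ τ₂)

theorem stdAut_congr {g g' : GL ι F} {τ τ' : F ≃+* F} {k k' : F} (h : IsSemi Q g τ k) (h' : IsSemi Q g' τ' k')
    (e : ∀ v, semi g τ v = semi g' τ' v) : stdAut h = stdAut h' := by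
  refine MulEquiv.ext fun x => ?_
  obtain ⟨x, rfl⟩ := proj_surjective x
  rw [stdAut_proj, stdAut_proj]
  refine congrArg proj (ext_lin fun v => ?_)
  obtain ⟨w, rfl⟩ := semi_surjective g τ v
  rw [lin_semiΩ]
  conv_rhs => rw [e w]
  rw [lin_semiΩ, e]

/-- A semisimilarity is determined up to scalars by its automorphism. -/
theorem stdAut_inj (hQ : GH Q) {g g' : GL ι F} {τ τ' : RingAut F} {k k' : F} (h : IsSemi Q g τ k)
    (h' : IsSemi Q g' τ' k') (e : stdAut h = stdAut h') :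
    τ = τ' ∧ ∃ c : F, c ≠ 0 ∧ ∀ v : V, (g' : Matrix ι ι F) *ᵥ v = c • ((g : Matrix ι ι F) *ᵥ v) := by
  set ρ : RingAut F := τ' * τ⁻¹ with hρ
  set G : GL ι F := compGL g' ρ g⁻¹ with hG
  have hcomp : ∀ v, semi G ρ (semi g τ v) = semi g' τ' v := fun v => by
    rw [hG, ← semi_compGL, hρ, inv_mul_cancel_right]
    show (_ : Matrix ι ι F) *ᵥ (τ' ∘ v) = (g' : Matrix ι ι F) *ᵥ (τ' ∘ v)
    congr 1
    show (g' : Matrix ι ι F) * ((g⁻¹ : GL ι F) : Matrix ι ι F).map _ * (g : Matrix ι ι F).map _ = _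
    rw [mul_assoc, ← Matrix.map_mul, Units.inv_mul, Matrix.map_one _ (map_zero _) (map_one _), mul_one]
  have key : ∀ d : V, Q d = 0 → d ≠ 0 → ∃ c : F, semi G ρ d = c • d := fun d hd hd0 => by
    obtain ⟨d₀, rfl⟩ := semi_surjective g τ d
    rw [h.2, mul_eq_zero, map_eq_zero, or_iff_right h.1] at hd
    have hd0' : d₀ ≠ 0 := fun e0 => hd0 (by rw [e0, semi]; simp)
    have h1 := stdAut_qbar hQ h hd
    rw [e, stdAut_qbar hQ h' hd] at h1
    obtain ⟨c, hc⟩ := Submodule.mem_span_singleton.1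
      (qbar_eq_imp hQ (by rw [h.2, hd, map_zero, mul_zero]) (by rw [h'.2, hd, map_zero, mul_zero])
        (semi_ne_zero g' τ' hd0') h1.symm)
    exact ⟨c, by rw [hcomp, hc]⟩
  obtain ⟨hρ1, c, hc, hGc⟩ := scalar_of_eigen hQ key
  have hτ : τ = τ' := by
    have h1 : τ' * τ⁻¹ = 1 := hρ1
    rw [mul_inv_eq_one] at h1
    exact h1.symm
  refine ⟨hτ, c, hc, fun v => ?_⟩
  subst hτ
  have h1 := hcomp (τ.symm ∘ v)
  rw [semi, semi, semi, comp_symm] at h1
  rw [← h1, show ρ = (RingEquiv.refl F : RingAut F) from hρ1]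
  exact hGc _

/-! ### The field part -/

/-- The field part of an automorphism. -/
noncomputable def tauFun (h : GH Q) (α : MulAut PΩ') : RingAut F := (classify h α).choose_spec.choose

theorem tauFun_stdAut (h : GH Q) {g : GL ι F} {τ : RingAut F} {k : F} (hs : IsSemi Q g τ k) :
    tauFun h (stdAut hs) = τ := by
  obtain ⟨k', hs', e⟩ := (classify h (stdAut hs)).choose_spec.choose_spec
  exact (stdAut_inj h hs hs' e).1.symm

/-- The field part, a homomorphism. -/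
noncomputable def tau (h : GH Q) : MulAut PΩ' →* RingAut F :=
  MonoidHom.mk' (tauFun h) fun α β => by
    obtain ⟨g₁, τ₁, k₁, h₁, rfl⟩ := classify h α
    obtain ⟨g₂, τ₂, k₂, h₂, rfl⟩ := classify h β
    rw [← stdAut_comp' h₁ h₂, tauFun_stdAut, tauFun_stdAut, tauFun_stdAut]

theorem tau_stdAut (h : GH Q) {g : GL ι F} {τ : RingAut F} {k : F} (hs : IsSemi Q g τ k) :
    tau h (stdAut hs) = τ := tauFun_stdAut h hs

theorem ker_tau (h : GH Q) : (tau h).ker = (Simil.act Q).range := by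
  ext α
  constructor
  · intro hα
    obtain ⟨g, τ, k, hs, rfl⟩ := classify h α
    rw [MonoidHom.mem_ker] at hα
    rw [tau_stdAut] at hα
    subst hα
    exact ⟨⟨g, mem_sim_of_semi rfl hs⟩, act_eq_stdAut _ hs⟩
  · rintro ⟨⟨g, hg⟩, rfl⟩
    obtain ⟨k, hs⟩ := isSemi_sim ⟨g, hg⟩
    rw [MonoidHom.mem_ker, act_eq_stdAut hg hs]
    exact tau_stdAut h hs

theorem inn_le_ker (h : GH Q) : Cfsg.Inn PΩ' ≤ (tau h).ker := by
  rw [ker_tau]
  rintro _ ⟨x, rfl⟩
  obtain ⟨s, rfl⟩ := proj_surjective x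
  exact ⟨_, (Simil.conj_eq_act s).symm⟩

theorem act_eq_one (h : GH Q) (g : Simil.Sim Q) :
    Simil.act Q g = 1 ↔ ∃ c : F, c ≠ 0 ∧ ∀ v : V, ((g : GL ι F) : Matrix ι ι F) *ᵥ v = c • v := by
  obtain ⟨k, hs⟩ := isSemi_sim g
  constructor
  · intro e
    rw [show g = ⟨(g : GL ι F), g.2⟩ from rfl, act_eq_stdAut g.2 hs] at e
    obtain ⟨-, hc⟩ := decomposition h hs e
    exact hc
  · rintro ⟨c, hc0, hc⟩
    refine MulEquiv.ext fun x => ?_
    obtain ⟨s, rfl⟩ := proj_surjective x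
    rw [show g = ⟨(g : GL ι F), g.2⟩ from rfl, act_eq_stdAut g.2 hs, stdAut_proj]
    refine congrArg proj (ext_lin fun v => ?_)
    obtain ⟨w, rfl⟩ := semi_surjective (g : GL ι F) (RingEquiv.refl F) v
    rw [lin_semiΩ, semi, semi, hc, hc]
    show c • lin s w = lin s (c • w)
    rw [map_smul]

theorem card_inn (h : GH Q) : Nat.card (Cfsg.Inn PΩ') = Nat.card PΩ' := by
  refine (Nat.card_congr (MonoidHom.ofInjective (f := (MulAut.conj : PΩ' →* MulAut PΩ')) ?_).toEquiv).symm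
  rw [injective_iff_map_eq_one]
  intro x hx
  obtain ⟨s, rfl⟩ := proj_surjective x
  obtain ⟨c, -, hc⟩ := (act_eq_one h _).1 ((Simil.conj_eq_act s).symm.trans hx)
  exact (QuotientGroup.eq_one_iff _).2 (mem_center_of_scalar (c := c) fun v => by rw [lin_apply]; exact hc v)

/-! ### The outer automorphism group -/

instance innNormal (G : Type*) [Group G] : (Cfsg.Inn G).Normal := ⟨fun β hβ ψ => by
  obtain ⟨x, rfl⟩ := hβ
  exact ⟨ψ x, MulEquiv.ext fun y => by simp [MulAut.conj_apply, MulAut.inv_def]⟩⟩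

/-- The field part of an outer automorphism. -/
noncomputable def outTau (h : GH Q) : Cfsg.Out PΩ' →* RingAut F :=
  QuotientGroup.lift _ (tau h) (inn_le_ker h)

/-- The class of an automorphism. -/
def out (α : MulAut PΩ') : Cfsg.Out PΩ' := QuotientGroup.mk' _ α

theorem out_mul (α β : MulAut PΩ') : out (α * β) = out α * out β := map_mul _ _ _

theorem out_surjective : Function.Surjective (out (Q := Q)) := QuotientGroup.mk'_surjective _

theorem out_eq_one (α : MulAut PΩ') : out α = 1 ↔ α ∈ Cfsg.Inn PΩ' := QuotientGroup.eq_one_iff α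

theorem outTau_out (h : GH Q) (α : MulAut PΩ') : outTau h (out α) = tau h α := rfl

theorem mem_outKer (h : GH Q) (x : Cfsg.Out PΩ') :
    x ∈ (outTau h).ker ↔ ∃ g : Simil.Sim Q, x = out (Simil.act Q g) := by
  constructor
  · intro hx
    obtain ⟨α, rfl⟩ := out_surjective x
    have h1 : α ∈ (tau h).ker := hx
    rw [ker_tau] at h1
    obtain ⟨g, rfl⟩ := h1
    exact ⟨g, rfl⟩
  · rintro ⟨g, rfl⟩
    show tau h _ = 1
    exact MonoidHom.mem_ker.1 ((ker_tau h).symm ▸ ⟨g, rfl⟩)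

theorem outKer_equiv (h : GH Q) {H : Type*} [Group H] (φ : ↥(Cfsg.pgoAut F ⇑Q) →* H)
    (hs : Function.Surjective φ) (hk : φ.ker = (Cfsg.Inn PΩ').subgroupOf (Cfsg.pgoAut F ⇑Q)) :
    Nonempty ((outTau h).ker ≃* H) := by
  have hp : Cfsg.pgoAut F ⇑Q = (tau h).ker := by rw [Simil.pgoAut_eq, ker_tau]
  let ψ : ↥(Cfsg.pgoAut F ⇑Q) →* (outTau h).ker :=
    ((QuotientGroup.mk' (Cfsg.Inn PΩ')).comp (Cfsg.pgoAut F ⇑Q).subtype).codRestrict _ fun x => by
      exact hp.le x.2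
  have hψs : Function.Surjective ψ := fun x => by
    obtain ⟨α, hα⟩ := out_surjective x.1
    have h1 : α ∈ (tau h).ker := by
      have := x.2; rw [← hα] at this; exact this
    exact ⟨⟨α, hp ▸ h1⟩, Subtype.ext hα⟩
  have hψk : ψ.ker = φ.ker := by
    rw [hk]; ext x
    rw [MonoidHom.mem_ker, Subgroup.mem_subgroupOf]
    exact Subtype.ext_iff.trans (QuotientGroup.eq_one_iff _)
  exact ⟨((QuotientGroup.quotientKerEquivOfSurjective ψ hψs).symm.trans
    (QuotientGroup.quotientMulEquivOfEq hψk)).trans (QuotientGroup.quotientKerEquivOfSurjective φ hs)⟩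

/-- The Frobenius as an element of the automorphism group of the field. -/
noncomputable def frob (F : Type*) [Field F] [Finite F] (p : ℕ) [Fact p.Prime] [CharP F p] : RingAut F :=
  RingEquiv.ofBijective (frobenius F p) (Finite.injective_iff_bijective.1 (frobenius_inj F p))

theorem frob_apply (p : ℕ) [Fact p.Prime] [CharP F p] (x : F) : frob F p x = x ^ p := rfl

theorem frob_pow_apply (p : ℕ) [Fact p.Prime] [CharP F p] (n : ℕ) (x : F) : (frob F p ^ n) x = x ^ p ^ n := by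
  induction n generalizing x with
  | zero => simp
  | succ n ih => rw [pow_succ', RingAut.mul_apply, ih, frob_apply, ← pow_mul, pow_succ]

theorem orderOf_frob [Fintype F] {p f : ℕ} [Fact p.Prime] [CharP F p] (hF : Fintype.card F = p ^ f) :
    orderOf (frob F p) = f := by
  have hf : f ≠ 0 := fun h0 => by
    have := Fintype.one_lt_card (α := F)
    rw [hF, h0, pow_zero] at this
    omega
  have hp := (Fact.out : p.Prime).one_lt
  refine (orderOf_eq_iff (Nat.pos_of_ne_zero hf)).2 ⟨RingEquiv.ext fun x => by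
    rw [frob_pow_apply, ← hF, FiniteField.pow_card]; rfl, fun n hn hn0 e => ?_⟩
  have hall : ∀ x : F, x ^ p ^ n = x := fun x => by rw [← frob_pow_apply, e]; rfl
  have hne : (Polynomial.X ^ p ^ n - Polynomial.X : Polynomial F) ≠ 0 :=
    FiniteField.X_pow_card_pow_sub_X_ne_zero F hn0.ne' hp
  have h1 := Polynomial.card_le_degree_of_subset_roots (p := (Polynomial.X ^ p ^ n - Polynomial.X : Polynomial F))
    (Z := Finset.univ) fun x _ => by simp [Polynomial.mem_roots hne, hall]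
  rw [FiniteField.X_pow_card_pow_sub_X_natDegree_eq F hn0.ne' hp, Finset.card_univ, hF] at h1
  exact absurd h1 (not_le.2 (Nat.pow_lt_pow_right hp hn))

theorem top_frob [Fintype F] {p f : ℕ} [Fact p.Prime] [CharP F p] (hF : Fintype.card F = p ^ f) (y : RingAut F) :
    y ∈ Subgroup.zpowers (frob F p) := by
  have : Finite (RingAut F) := Finite.of_injective (fun σ => (σ : F → F)) DFunLike.coe_injective
  rw [Subgroup.eq_top_of_card_eq (Subgroup.zpowers (frob F p))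
    (by rw [Nat.card_zpowers, orderOf_frob hF, CfsgLib.AutPSL.card_ringAut F hF])]
  trivial

theorem gen_of_frob [Fintype F] (h : GH Q) {p f : ℕ} [Fact p.Prime] [CharP F p] (hF : Fintype.card F = p ^ f)
    {α : MulAut PΩ'} (hα : tau h α = frob F p) : Gen (outTau h) (out α) f :=
  ⟨by rw [outTau_out, hα, orderOf_frob hF], fun y => by rw [outTau_out, hα]; exact top_frob hF y⟩

theorem card_aut [Fintype F] (h : GH Q) {p f : ℕ} [Fact p.Prime] [CharP F p] (hF : Fintype.card F = p ^ f)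
    {α : MulAut PΩ'} (hα : tau h α = frob F p) :
    Nat.card (MulAut PΩ') = Nat.card (outTau h).ker * f * Nat.card PΩ' := by
  rw [Subgroup.card_eq_card_quotient_mul_card_subgroup (Cfsg.Inn PΩ'), card_inn h, ← (gen_of_frob h hF hα).card]

end CfsgLib.AutPE
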