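import Cfsg.Agent.AutPE.Semi
import Cfsg.Agent.Forms.OmegaMatrix
set_option autoImplicit false
set_option quotPrecheck false
set_option linter.unusedSectionVars false

/-!
Characteristic two: similarities induce isometries, and the isometries give a group of order two
modulo inner automorphisms.
-/

namespace CfsgLib.AutPE

open QuadraticMap hiding proj
open Matrix
open CfsgLib.Forms CfsgLib.AutPO

variable {F : Type*} [Field F] [Finite F] {ι : Type} [Fintype ι] [DecidableEq ι]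
  {Q : QuadraticForm F (ι → F)}

local notation "V" => (ι → F)
local notation "Ω'" => (Cfsg.Omega F ⇑Q)
local notation "PΩ'" => (Cfsg.POmega F ⇑Q)

/-- The class of the automorphism induced by an isometry. -/
noncomputable def isoOut : Cfsg.isometryGroup F ⇑Q →* Cfsg.Out PΩ' :=
  (QuotientGroup.mk' (Cfsg.Inn PΩ')).comp ((Simil.act Q).comp Simil.ofIso)

variable (h : GH Q)
include h

theorem isoOut_eq_one_of_mem {k : Cfsg.isometryGroup F ⇑Q} (hk : k ∈ Ω') : isoOut k = 1 :=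
  (out_eq_one _).2 ((Simil.mem_inn_iff _).2 ⟨k, hk, rfl⟩)

theorem isoOut_eq_one_iff_two (h2 : (2 : F) = 0) (k : Cfsg.isometryGroup F ⇑Q) :
    isoOut k = 1 ↔ k ∈ Ω' := by
  refine ⟨fun hk => ?_, isoOut_eq_one_of_mem h⟩
  obtain ⟨w, hw, e⟩ := (Simil.mem_inn_iff _).1 ((out_eq_one _).1 hk)
  have h1 : Simil.act Q (Simil.ofIso (w⁻¹ * k)) = 1 := by
    rw [map_mul, map_mul, map_inv, map_inv]
    exact inv_mul_eq_one.2 e.symm
  obtain ⟨c, -, hc⟩ := (act_eq_one h _).1 h1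
  obtain ⟨v, hv⟩ := exists_ne_zero h
  have hcc := mem_isometryGroup.1 (w⁻¹ * k).2 v
  rw [show (((w⁻¹ * k : Cfsg.isometryGroup F ⇑Q) : GL ι F) : Matrix ι ι F) *ᵥ v = c • v from hc v,
    QuadraticMap.map_smul, smul_eq_mul] at hcc
  have hc1 : c = 1 := by
    have h3 : (c * c - 1) * Q v = 0 := by linear_combination hcc
    have h4 : c * c - 1 = (c - 1) * (c - 1) := by linear_combination (c - 1) * h2
    rw [h4, mul_eq_zero, or_iff_left hv, mul_self_eq_zero, sub_eq_zero] at h3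
    exact h3
  have : w⁻¹ * k = 1 := Subtype.ext (Units.ext (Matrix.ext_iff_mulVec.2 fun x => by
    rw [show (((w⁻¹ * k : Cfsg.isometryGroup F ⇑Q) : GL ι F) : Matrix ι ι F) *ᵥ x = c • x from hc x, hc1]
    simp))
  rw [← inv_mul_eq_one.1 this]
  exact hw

theorem hd : Nat.card F ≠ 2 ∨ Fintype.card ι ≠ 4 := Or.inr (by have := h.dim; omega)

theorem mem_Omega_iff_even_two (h2 : (2 : F) = 0) {k : Cfsg.isometryGroup F ⇑Q} {l : List {u : V // Q u ≠ 0}}
    (hl : isoEquiv Q k = ⟨reflProd Q l, reflProd_mem_isom l⟩) : k ∈ Ω' ↔ Even l.length := by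
  rw [mem_Omega_of_list h.nondeg (hd h) hl]
  refine ⟨And.left, fun he => ⟨he, ?_⟩⟩
  obtain ⟨b, hb⟩ := exists_sq h2 (valueProd Q l)
  exact ⟨b, hb.symm⟩

theorem isoOut_refl_ne_one (h2 : (2 : F) = 0) {u : V} (hu : Q u ≠ 0) : isoOut (listGL Q [⟨u, hu⟩]) ≠ 1 := by
  rw [Ne, isoOut_eq_one_iff_two h h2, mem_Omega_iff_even_two h h2 (isoEquiv_listGL _)]
  simp

theorem outKer_two (h2 : (2 : F) = 0) {u : V} (hu : Q u ≠ 0) {x : Cfsg.Out PΩ'} (hx : x ∈ (outTau h).ker) :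
    x = 1 ∨ x = isoOut (listGL Q [⟨u, hu⟩]) := by
  obtain ⟨g, rfl⟩ := (mem_outKer h x).1 hx
  obtain ⟨c, hc⟩ := g.2
  obtain ⟨b, hb⟩ := exists_sq h2 (c : F)
  have hb0 : b ≠ 0 := fun e => c.ne_zero (by rw [← hb, e, mul_zero])
  let z : GL ι F := Matrix.GeneralLinearGroup.scalar ι (Units.mk0 b hb0)⁻¹
  have hz : ∀ v : V, (z : Matrix ι ι F) *ᵥ v = b⁻¹ • v := fun v => by
    ext i; simp [z, Matrix.GeneralLinearGroup.scalar, Matrix.mulVec_diagonal]
  have hmem : (g : GL ι F) * z ∈ Cfsg.isometryGroup F ⇑Q := mem_isometryGroup.2 fun v => by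
    rw [Units.val_mul, ← mulVec_mulVec, hz, mulVec_smul, QuadraticMap.map_smul, hc, smul_eq_mul, ← hb]
    field_simp
  set k : Cfsg.isometryGroup F ⇑Q := ⟨_, hmem⟩
  have e : Simil.act Q g = Simil.act Q (Simil.ofIso k) := by
    have h1 : Simil.act Q (g⁻¹ * Simil.ofIso k) = 1 := (act_eq_one h _).2 ⟨b⁻¹, inv_ne_zero hb0, fun v => by
      show (((g : GL ι F)⁻¹ * ((g : GL ι F) * z) : GL ι F) : Matrix ι ι F) *ᵥ v = _
      rw [inv_mul_cancel_left, hz]⟩
    rw [map_mul, map_inv, inv_mul_eq_one] at h1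
    exact h1
  rw [e]
  show isoOut k = 1 ∨ isoOut k = _
  obtain ⟨l, hl⟩ := exists_list h.nondeg (hd h) k
  rcases Nat.even_or_odd l.length with he | ho
  · exact Or.inl (isoOut_eq_one_of_mem h ((mem_Omega_iff_even_two h h2 hl).2 he))
  · refine Or.inr ?_
    have hm : k * (listGL Q [⟨u, hu⟩])⁻¹ ∈ Ω' := by
      have hl' : isoEquiv Q (k * (listGL Q [⟨u, hu⟩])⁻¹) =
          ⟨reflProd Q (l ++ [⟨u, hu⟩]), reflProd_mem_isom _⟩ := by
        rw [map_mul, map_inv, hl, isoEquiv_listGL]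
        refine Subtype.ext ?_
        show reflProd Q l * (refl Q u hu * 1)⁻¹ = reflProd Q (l ++ [⟨u, hu⟩])
        rw [mul_one, refl_inv, reflProd_append]
        show _ = reflProd Q l * (refl Q u hu * 1)
        rw [mul_one]
      rw [mem_Omega_iff_even_two h h2 hl', List.length_append]
      exact ho.add_odd odd_one
    have h1 := isoOut_eq_one_of_mem h hm
    rw [map_mul, map_inv, mul_inv_eq_one] at h1
    exact h1

theorem isoOut_mem_ker (k : Cfsg.isometryGroup F ⇑Q) : isoOut k ∈ (outTau h).ker :=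
  (mem_outKer h _).2 ⟨Simil.ofIso k, rfl⟩

theorem card_outKer_two (h2 : (2 : F) = 0) : Nat.card (outTau h).ker = 2 := by
  obtain ⟨u, hu⟩ := exists_ne_zero h
  refine Nat.card_eq_two_iff.2 ⟨1, ⟨_, isoOut_mem_ker h (listGL Q [⟨u, hu⟩])⟩,
    fun e => isoOut_refl_ne_one h h2 hu (congrArg Subtype.val e).symm, ?_⟩
  refine Set.eq_univ_of_forall fun x => ?_
  rcases outKer_two h h2 hu x.2 with e | e
  · exact Or.inl (Subtype.ext e)
  · exact Or.inr (Subtype.ext e)

end CfsgLib.AutPE
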